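import Cfsg.Agent.H82.Chev.Separate

/-!
# Separation certificate of type F4 (generated file)
-/

set_option autoImplicit false
set_option maxRecDepth 100000

namespace Cfsg.Agent.H82.Chev

open Cfsg.Lie Cfsg.Agent.H46

/-- Cocharacters and decompositions of type F4. -/
def sepF4 : SepCert := ⟨1,
  [[0, 0, 0, -1], [0, 0, -1, 0], [0, 0, 1, 0], [-1, 0, 0, 0], [0, 0, -1, 0], [0, 0, 0, -1], [0, 0, 0, 1], [0, -1, 0, 0], [0, 0, -1, 0], [0, -1, 0, 0], [0, -1, 0, 0], [-1, 0, 0, 0], [-1, 0, 0, 0], [-1, 0, 0, 0], [0, 1, 0, 0], [0, 0, -1, 0], [0, 0, 0, -1], [0, 0, 0, 1], [0, 0, 0, -1], [0, 0, -1, 0], [0, 0, 1, 0], [0, 0, -1, 0], [0, 0, 0, 1], [0, 0, 1, 0], [0, 0, -1, 0], [0, 0, 0, -1], [0, 0, 0, 1], [-1, 0, 0, 0], [-1, 0, 0, 0], [-1, 0, 0, 0], [0, 0, 0, -1], [0, 0, -1, 0], [0, 0, 1, 0], [0, -1, 0, 0], [0, 0, -1, 0], [0, -1, 0, 0], [0, -1, 0, 0], [0, 0,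 0, -1], [0, 0, -1, 0], [0, -1, 0, 0], [-1, 0, 0, 0], [0, 0, 0, -1], [0, 0, -1, 0], [0, 0, 1, 0], [1, 0, 0, 0], [0, 0, -1, 0], [0, 0, 0, -1], [0, 0, 0, 1]],
  [[0, 0, -1, 0], [0, -1, -1, 0], [0, 0, 0, -1], [-1, -1, -2, -1], [-1, -1, -1, 0], [-1, 0, 0, 1]],
  [(0, 6, 10, 30), (0, 17, 6, 33), (0, 22, 6, 34), (0, 25, 6, 35), (0, 30, 6, 37), (0, 41, 17, 37), (1, 5, 9, 31), (1, 16, 5, 33), (1, 21, 5, 34), (1, 26, 5, 36), (1, 31, 5, 38), (1, 42, 16, 38), (2, 4, 8, 32), (2, 15, 4, 33), (2, 23, 4, 35), (2, 24, 4, 36), (2, 32, 4, 39), (2, 43, 15, 39), (4, 15, 2, 34), (4, 23, 2, 37), (4, 24, 2, 38), (4, 32, 2, 40), (4, 45, 15, 40), (5, 16, 1, 35), (5, 21, 1, 37), (5, 26, 1, 39), (5, 31, 1, 40), (5, 46, 16, 40), (6, 17, 0, 36), (6, 22, 0, 38), (6, 25, 0, 39), (6, 30, 0, 40), (6, 47, 17, 40), (15, 23, 2, 37), (15, 24, 2, 38), (15, 43, 2, 44), (15, 45,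 4, 44), (16, 21, 1, 37), (16, 26, 1, 39), (16, 42, 1, 44), (16, 46, 5, 44), (17, 22, 0, 38), (17, 25, 0, 39), (17, 41, 0, 44), (17, 47, 6, 44), (21, 31, 1, 40), (21, 42, 1, 44), (21, 46, 5, 44), (22, 30, 0, 40), (22, 41, 0, 44), (22, 47, 6, 44), (23, 32, 2, 40), (23, 43, 2, 44), (23, 45, 4, 44), (24, 32, 2, 40), (24, 43, 2, 44), (24, 45, 4, 44), (25, 30, 0, 40), (25, 41, 0, 44), (25, 47, 6, 44), (26, 31, 1, 40), (26, 42, 1, 44), (26, 46, 5, 44), (30, 41, 0, 44), (30, 47, 6, 44), (31, 42, 1, 44), (31, 46, 5, 44), (32, 43, 2, 44), (32, 45, 4, 44), (41, 47, 17, 40), (42, 46, 16, 40), (43, 45, 15, 40)]⟩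

theorem chkSepF4 : chkSep chevF4 tabF4 sepF4 = true := by decide +kernel

/-- Decompositions commuting with their root. -/
def selfF4 : List (ℕ × ℕ) := [(1, 23), (0, 24), (0, 26), (7, 14), (0, 31), (0, 32), (1, 32), (3, 33), (3, 34), (3, 35), (3, 36), (3, 37), (3, 38), (3, 39), (3, 40), (0, 42), (0, 43), (1, 43), (7, 37), (7, 38), (7, 39), (0, 45), (1, 45), (0, 46), (1, 47), (2, 46), (2, 47), (8, 40), (9, 40), (10, 40), (4, 46), (4, 47), (5, 47), (7, 44), (8, 44), (9, 44), (10, 44), (11, 44), (12, 44), (13, 44), (14, 44), (15, 46), (15, 47), (16, 47), (33, 40), (21, 47), (23, 47), (24, 46)]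

theorem chkSelfF4 : chkSelf chevF4 tabF4 sepF4 selfF4 = true := by decide +kernel

end Cfsg.Agent.H82.Chev
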